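import Mathlib

/-!
Jointly injective families on every basic open.
-/

set_option autoImplicit false
set_option linter.style.haveILetI false
universe u
open scoped TensorProduct

noncomputable section

namespace Groth.Agent.SchDom

/-- A family of ring maps is schematically dominant on every basic open. -/
def JI {B : Type u} [CommRing B] {ι : Type u} {C : ι → Type u} [∀ i, CommRing (C i)]
    (f : ∀ i, B →+* C i) : Prop :=
  ∀ h b : B, (∀ i, ∃ m, f i (h ^ m * b) = 0) → ∃ m, h ^ m * b = 0

section Fibre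

variable {A : Type u} [CommRing A] {S : Type u} [CommRing S] [Algebra A S]

theorem exists_mul_mem_map {p : Ideal A} [p.IsPrime] {w : S}
    (h : (1 : p.ResidueField) ⊗ₜ[A] w = 0) :
    ∃ t ∉ p, algebraMap A S t * w ∈ p.map (algebraMap A S) := by
  letI : Algebra S (p.Fiber S) := Algebra.TensorProduct.rightAlgebra
  have h0 := congrArg (Ideal.Fiber.algEquivAux₁ (S := S) p) h
  have h1 : ((1 : p.ResidueField) ⊗ₜ[A] w : p.Fiber S) = algebraMap S (p.Fiber S) w := rfl
  rw [map_zero, h1, AlgEquiv.commutes,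
    IsScalarTower.algebraMap_apply S (Localization (Algebra.algebraMapSubmonoid S p.primeCompl)),
    Ideal.Quotient.algebraMap_eq, Ideal.Quotient.eq_zero_iff_mem,
    IsLocalization.algebraMap_mem_map_algebraMap_iff (Algebra.algebraMapSubmonoid S p.primeCompl)] at h0
  obtain ⟨_, ⟨t, ht, rfl⟩, hmem⟩ := h0
  exact ⟨t, ht, hmem⟩

theorem tmul_eq_zero_of_mem {p : Ideal A} [p.IsPrime] {w : S} (h : w ∈ p.map (algebraMap A S)) :
    (1 : p.ResidueField) ⊗ₜ[A] w = 0 := by
  induction h using Submodule.span_induction with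
  | mem x hx =>
    obtain ⟨a, ha, rfl⟩ := hx
    rw [Algebra.algebraMap_eq_smul_one, ← TensorProduct.smul_tmul, Algebra.smul_def, _root_.mul_one,
      Ideal.algebraMap_residueField_eq_zero.mpr ha, TensorProduct.zero_tmul]
  | zero => rw [TensorProduct.tmul_zero]
  | add x y _ _ hx hy => rw [TensorProduct.tmul_add, hx, hy, add_zero]
  | smul c x _ hx =>
    rw [smul_eq_mul, ← _root_.mul_one (1 : p.ResidueField), ← Algebra.TensorProduct.tmul_mul_tmul, hx,
      mul_zero]

end Fibre

section Flat

variable {A : Type u} [CommRing A] {B : Type u} [CommRing B] [Algebra A B]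
  {ι : Type u} {C : ι → Type u} [∀ i, CommRing (C i)] [∀ i, Algebra A (C i)]

/-- EGA IV 11.10.9: flat targets, fibrewise dominant. -/
theorem JI_of_fibre [IsNoetherianRing B] [∀ i, Module.Flat A (C i)] (f : ∀ i, B →ₐ[A] C i)
    (hfib : ∀ (p : Ideal A) [p.IsPrime],
      JI (fun i => (Algebra.TensorProduct.map (AlgHom.id p.ResidueField p.ResidueField) (f i)).toRingHom)) :
    JI (fun i => (f i).toRingHom) := by
  classical
  intro h x hx
  by_contra hcon
  push Not at hcon
  let ann : Ideal B := LinearMap.ker (LinearMap.mulRight B x)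
  have hann : ∀ c, c ∈ ann ↔ c * x = 0 := fun c => Iff.rfl
  obtain ⟨Q, hQ, hannQ, hdisj⟩ := Ideal.exists_le_prime_disjoint ann (Submonoid.powers h) (by
    rw [Set.disjoint_left]
    rintro c hc ⟨m, rfl⟩
    exact hcon m ((hann _).mp hc))
  have hhQ : ∀ m, h ^ m ∉ Q := fun m hm => Set.disjoint_left.mp hdisj hm ⟨m, rfl⟩
  haveI := hQ
  let p : Ideal A := Q.comap (algebraMap A B)
  -- Krull
  obtain ⟨n, hn⟩ : ∃ n : ℕ, ∀ s ∉ Q, s * x ∉ (p ^ n).map (algebraMap A B) := by
    by_contra! hall
    let L := Localization.AtPrime Q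
    have hzero : algebraMap B L x ∈ ⨅ n : ℕ, (IsLocalRing.maximalIdeal L) ^ n := by
      rw [Submodule.mem_iInf]
      intro n
      obtain ⟨s, hs, hsx⟩ := hall n
      have h2 : algebraMap B L (s * x) ∈ (IsLocalRing.maximalIdeal L) ^ n := by
        have := Ideal.mem_map_of_mem (algebraMap B L) hsx
        refine (?_ : ((p ^ n).map (algebraMap A B)).map (algebraMap B L) ≤ _) this
        rw [Ideal.map_map, Ideal.map_pow, ← Ideal.map_map]
        refine Ideal.pow_right_mono ?_ n
        rw [← Localization.AtPrime.map_eq_maximalIdeal]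
        exact Ideal.map_mono (Ideal.map_le_iff_le_comap.mpr le_rfl)
      rw [map_mul] at h2
      exact (Ideal.unit_mul_mem_iff_mem _ (IsLocalization.map_units L (⟨s, hs⟩ : Q.primeCompl))).mp h2
    rw [Ideal.iInf_pow_eq_bot_of_isLocalRing _ (IsLocalRing.maximalIdeal.isMaximal L).ne_top] at hzero
    obtain ⟨⟨s, hs⟩, hsx⟩ := (IsLocalization.map_eq_zero_iff Q.primeCompl L x).mp ((Submodule.mem_bot L).mp hzero)
    exact hs (hannQ ((hann s).mpr hsx))
  have hex : ∃ n : ℕ, ∀ s ∉ Q, s * x ∉ (p ^ n).map (algebraMap A B) := ⟨n, hn⟩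
  obtain ⟨n₀, hn₀, hmin⟩ : ∃ n₀, (∀ s ∉ Q, s * x ∉ (p ^ n₀).map (algebraMap A B)) ∧
      ∀ m < n₀, ¬ ∀ s ∉ Q, s * x ∉ (p ^ m).map (algebraMap A B) :=
    ⟨Nat.find hex, Nat.find_spec hex, fun m hm => Nat.find_min hex hm⟩
  obtain ⟨n, rfl⟩ : ∃ n, n₀ = n + 1 := by
    refine Nat.exists_eq_succ_of_ne_zero fun h0 => ?_
    subst h0
    exact hn₀ 1 (fun h1 => hQ.ne_top ((Ideal.eq_top_iff_one _).mpr h1))
      (by rw [pow_zero, Ideal.one_eq_top, Ideal.map_top]; trivial)
  push Not at hmin
  obtain ⟨s, hsQ, hsx⟩ := hmin n (Nat.lt_succ_self n)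
  -- a shortest expansion modulo `p ^ (n + 1)`
  have hrep : ∀ w ∈ (p ^ n).map (algebraMap A B), ∃ (l : ℕ) (g : Fin l → A) (c : Fin l → B),
      (∀ j, g j ∈ p ^ n) ∧ w = ∑ j, algebraMap A B (g j) * c j := by
    intro w hw
    induction hw using Submodule.span_induction with
    | mem z hz =>
      obtain ⟨a, ha, rfl⟩ := hz
      exact ⟨1, fun _ => a, fun _ => 1, fun _ => ha, by simp⟩
    | zero => exact ⟨0, Fin.elim0, Fin.elim0, fun j => j.elim0, by simp⟩
    | add u v _ _ hu hv =>
      obtain ⟨l, g, c, hg, rfl⟩ := hu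
      obtain ⟨l', g', c', hg', rfl⟩ := hv
      exact ⟨l + l', Fin.append g g', Fin.append c c',
        fun j => Fin.addCases (fun j => by simp [hg j]) (fun j => by simp [hg' j]) j,
        by simp [Fin.sum_univ_add]⟩
    | smul r u _ hu =>
      obtain ⟨l, g, c, hg, rfl⟩ := hu
      exact ⟨l, g, fun j => r * c j, hg, by
        rw [smul_eq_mul, Finset.mul_sum]; exact Finset.sum_congr rfl fun j _ => mul_left_comm _ _ _⟩
  let P : ℕ → Prop := fun l => ∃ (g : Fin l → A) (c : Fin l → B) (s : B), s ∉ Q ∧ (∀ j, g j ∈ p ^ n) ∧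
    s * x - ∑ j, algebraMap A B (g j) * c j ∈ (p ^ (n + 1)).map (algebraMap A B)
  have hP : ∃ l, P l := by
    obtain ⟨l, g, c, hg, he⟩ := hrep _ hsx
    exact ⟨l, g, c, s, hsQ, hg, by rw [he, sub_self]; exact zero_mem _⟩
  obtain ⟨l₀, ⟨g, c, s', hs'Q, hg, hdiff⟩, hlmin⟩ : ∃ l, P l ∧ ∀ m < l, ¬ P m :=
    ⟨Nat.find hP, Nat.find_spec hP, fun m hm => Nat.find_min hP hm⟩
  have hindep : ∀ a : Fin l₀ → A, ∑ j, a j * g j ∈ p ^ (n + 1) → ∀ j, a j ∈ p := by
    intro a ha j
    by_contra haj
    cases l₀ with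
    | zero => exact j.elim0
    | succ l =>
      refine hlmin l (Nat.lt_succ_self l) ⟨fun k => g (j.succAbove k),
        fun k => algebraMap A B (a j) * c (j.succAbove k) - algebraMap A B (a (j.succAbove k)) * c j,
        algebraMap A B (a j) * s', fun h' => (hQ.mem_or_mem h').elim haj hs'Q, fun k => hg _, ?_⟩
      have he : algebraMap A B (a j) * s' * x - ∑ k, algebraMap A B (g (j.succAbove k)) *
          (algebraMap A B (a j) * c (j.succAbove k) - algebraMap A B (a (j.succAbove k)) * c j) =
          algebraMap A B (a j) * (s' * x - ∑ k, algebraMap A B (g k) * c k) +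
            algebraMap A B (∑ k, a k * g k) * c j := by
        rw [Fin.sum_univ_succAbove _ j, Fin.sum_univ_succAbove _ j]
        simp only [map_add, map_sum, map_mul, mul_sub, Finset.sum_sub_distrib, Finset.sum_mul,
          add_mul, mul_add, Finset.mul_sum]
        have e1 : ∑ k, algebraMap A B (g (j.succAbove k)) * (algebraMap A B (a j) * c (j.succAbove k)) =
            ∑ k, algebraMap A B (a j) * (algebraMap A B (g (j.succAbove k)) * c (j.succAbove k)) :=
          Finset.sum_congr rfl fun k _ => by ring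
        have e2 : ∑ k, algebraMap A B (g (j.succAbove k)) * (algebraMap A B (a (j.succAbove k)) * c j) =
            ∑ k, algebraMap A B (a (j.succAbove k)) * algebraMap A B (g (j.succAbove k)) * c j :=
          Finset.sum_congr rfl fun k _ => by ring
        rw [e1, e2]
        ring
      rw [he]
      exact add_mem (Ideal.mul_mem_left _ _ hdiff) (Ideal.mul_mem_right _ _ (Ideal.mem_map_of_mem _ ha))
  have hy : ∀ j, ∃ (M : ℕ) (t : A), t ∉ p ∧ algebraMap A B t * (h ^ M * c j) ∈ p.map (algebraMap A B) := by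
    intro j
    have hk : ∀ i, ∃ m, (Algebra.TensorProduct.map (AlgHom.id p.ResidueField p.ResidueField) (f i)).toRingHom
        (((1 : p.ResidueField) ⊗ₜ[A] h) ^ m * ((1 : p.ResidueField) ⊗ₜ[A] c j)) = 0 := by
      intro i
      obtain ⟨m, hm⟩ := hx i
      refine ⟨m, ?_⟩
      rw [Algebra.TensorProduct.tmul_pow, one_pow, Algebra.TensorProduct.tmul_mul_tmul, _root_.one_mul]
      show Algebra.TensorProduct.map (AlgHom.id p.ResidueField p.ResidueField) (f i) _ = 0
      rw [Algebra.TensorProduct.map_tmul, map_one]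
      refine tmul_eq_zero_of_mem ?_
      -- flatness
      have h1 : ∑ k, algebraMap A (C i) (g k) * f i (h ^ m * c k) ∈
          (p ^ (n + 1)).map (algebraMap A (C i)) := by
        have h2 := Ideal.mem_map_of_mem (f i).toRingHom (Ideal.mul_mem_left _ (h ^ m) hdiff)
        rw [Ideal.map_map, show (f i).toRingHom.comp (algebraMap A B) = algebraMap A (C i) from (f i).comp_algebraMap] at h2
        have h3 : (f i).toRingHom (h ^ m * (s' * x - ∑ k, algebraMap A B (g k) * c k)) =
            -(∑ k, algebraMap A (C i) (g k) * f i (h ^ m * c k)) := by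
          rw [mul_sub, map_sub, mul_left_comm, map_mul, hm, mul_zero, zero_sub, Finset.mul_sum, map_sum]
          refine congrArg Neg.neg (Finset.sum_congr rfl fun k _ => ?_)
          show f i _ = _
          rw [mul_left_comm, map_mul, AlgHom.commutes]
        rw [h3] at h2
        exact neg_mem_iff.mp h2
      obtain ⟨q, b, w, hb, hbw⟩ : ∃ (q : ℕ) (b : Fin q → A) (w : Fin q → C i), (∀ k, b k ∈ p ^ (n + 1)) ∧
          ∑ k, algebraMap A (C i) (g k) * f i (h ^ m * c k) = ∑ k, algebraMap A (C i) (b k) * w k := by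
        revert h1
        generalize ∑ k, algebraMap A (C i) (g k) * f i (h ^ m * c k) = z
        intro h1
        induction h1 using Submodule.span_induction with
        | mem z hz =>
          obtain ⟨a, ha, rfl⟩ := hz
          exact ⟨1, fun _ => a, fun _ => 1, fun _ => ha, by simp⟩
        | zero => exact ⟨0, Fin.elim0, Fin.elim0, fun j => j.elim0, by simp⟩
        | add u v _ _ hu hv =>
          obtain ⟨l, b, w, hb, rfl⟩ := hu
          obtain ⟨l', b', w', hb', rfl⟩ := hv
          exact ⟨l + l', Fin.append b b', Fin.append w w',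
            fun j => Fin.addCases (fun j => by simp [hb j]) (fun j => by simp [hb' j]) j,
            by simp [Fin.sum_univ_add]⟩
        | smul r u _ hu =>
          obtain ⟨l, b, w, hb, rfl⟩ := hu
          exact ⟨l, b, fun j => r * w j, hb, by
            rw [smul_eq_mul, Finset.mul_sum]; exact Finset.sum_congr rfl fun j _ => mul_left_comm _ _ _⟩
      have h4 : ∑ k, (Fin.append g (fun k => - b k)) k • (Fin.append (fun k => f i (h ^ m * c k)) w) k = 0 := by
        simp only [Fin.sum_univ_add, Fin.append_left, Fin.append_right, Algebra.smul_def, map_neg, neg_mul,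
          Finset.sum_neg_distrib, hbw, add_neg_cancel]
      obtain ⟨N, al, y, hy1, hy2⟩ := Module.Flat.isTrivialRelation_of_sum_smul_eq_zero (R := A) (M := C i)
        (f := Fin.append g (fun k => - b k)) (x := Fin.append (fun k => f i (h ^ m * c k)) w) h4
      have h5 := hy1 (Fin.castAdd q j)
      simp only [Fin.append_left] at h5
      rw [h5]
      refine sum_mem fun r _ => ?_
      rw [Algebra.smul_def]
      refine Ideal.mul_mem_right _ _ (Ideal.mem_map_of_mem _ (hindep (fun k => al (Fin.castAdd q k) r) ?_ j))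
      have h6 := hy2 r
      simp only [Fin.sum_univ_add, Fin.append_left, Fin.append_right, neg_mul, Finset.sum_neg_distrib,
        add_neg_eq_zero] at h6
      rw [Finset.sum_congr rfl (fun k _ => mul_comm _ _), h6]
      exact sum_mem fun k _ => Ideal.mul_mem_right _ _ (hb k)
    obtain ⟨M, hM⟩ := hfib p _ _ hk
    rw [Algebra.TensorProduct.tmul_pow, one_pow, Algebra.TensorProduct.tmul_mul_tmul, _root_.one_mul] at hM
    obtain ⟨t, ht, htm⟩ := exists_mul_mem_map hM
    exact ⟨M, t, ht, htm⟩
  choose M t ht hMt using hy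
  let T := ∏ j, t j
  let N := ∑ j, M j
  have hT : algebraMap A B T ∉ Q := fun hh => by
    have hTp : T ∈ p := hh
    haveI : p.IsPrime := Q.comap_isPrime (algebraMap A B)
    obtain ⟨j, -, hj⟩ := Ideal.IsPrime.prod_mem_iff.mp hTp
    exact ht j hj
  refine hn₀ (algebraMap A B T * h ^ N * s')
    (fun hh => (hQ.mem_or_mem hh).elim (fun hh => (hQ.mem_or_mem hh).elim hT (hhQ N)) hs'Q) ?_
  have hall : ∀ j, algebraMap A B (g j) * (algebraMap A B T * (h ^ N * c j)) ∈ (p ^ (n + 1)).map (algebraMap A B) := by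
    intro j
    obtain ⟨d, hd⟩ := Finset.dvd_prod_of_mem t (Finset.mem_univ j)
    have : algebraMap A B T * (h ^ N * c j) ∈ p.map (algebraMap A B) := by
      obtain ⟨e', he'⟩ : ∃ e', N = e' + M j := ⟨N - M j, (Nat.sub_add_cancel
        (Finset.single_le_sum (fun k _ => Nat.zero_le (M k)) (Finset.mem_univ j) : M j ≤ N)).symm⟩
      rw [show T = t j * d from hd, map_mul, he', pow_add]
      have e : algebraMap A B (t j) * algebraMap A B d * (h ^ e' * h ^ M j * c j) =
          algebraMap A B d * h ^ e' * (algebraMap A B (t j) * (h ^ M j * c j)) := by ring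
      rw [e]
      exact Ideal.mul_mem_left _ _ (hMt j)
    rw [pow_succ, Ideal.map_mul]
    exact Ideal.mul_mem_mul (Ideal.mem_map_of_mem _ (hg j)) this
  have e : algebraMap A B T * h ^ N * s' * x =
      algebraMap A B T * h ^ N * (s' * x - ∑ j, algebraMap A B (g j) * c j) +
        ∑ j, algebraMap A B (g j) * (algebraMap A B T * (h ^ N * c j)) := by
    rw [mul_sub, Finset.mul_sum]
    have : ∑ j, algebraMap A B T * h ^ N * (algebraMap A B (g j) * c j) =
        ∑ j, algebraMap A B (g j) * (algebraMap A B T * (h ^ N * c j)) :=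
      Finset.sum_congr rfl fun j _ => by ring
    rw [this]
    ring
  rw [e]
  exact add_mem (Ideal.mul_mem_left _ _ hdiff) (sum_mem fun j _ => hall j)

end Flat

section BaseChange

variable {A : Type u} [CommRing A] {B : Type u} [CommRing B] [Algebra A B]
  {ι : Type u} {C : ι → Type u} [∀ i, CommRing (C i)] [∀ i, Algebra A (C i)]

variable (A) in
/-- The base change of an algebra map along `A → A'`. -/
abbrev BC (A' : Type u) [CommRing A'] [Algebra A A'] {B C : Type u} [CommRing B] [Algebra A B]
    [CommRing C] [Algebra A C] (f : B →ₐ[A] C) : A' ⊗[A] B →ₐ[A'] A' ⊗[A] C :=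
  Algebra.TensorProduct.map (AlgHom.id A' A') f

theorem JI_congr {B' : Type u} [CommRing B'] {C' : ι → Type u} [∀ i, CommRing (C' i)]
    {f : ∀ i, B →+* C i} {f' : ∀ i, B' →+* C' i} (e : B ≃+* B') (e' : ∀ i, C i ≃+* C' i)
    (he : ∀ i x, e' i (f i x) = f' i (e x)) (hf : JI f) : JI f' := by
  intro h x hx
  obtain ⟨h, rfl⟩ := e.surjective h
  obtain ⟨x, rfl⟩ := e.surjective x
  obtain ⟨m, hm⟩ := hf h x fun i => by
    obtain ⟨m, hm⟩ := hx i
    refine ⟨m, (e' i).injective ?_⟩
    rw [he, map_mul, map_pow, hm, map_zero]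
  exact ⟨m, by rw [← map_pow, ← map_mul, hm, map_zero]⟩

theorem tensor_map_naturality {A' : Type u} [CommRing A'] [Algebra A A'] {B C B' C' : Type u}
    [CommRing B] [Algebra A B] [CommRing C] [Algebra A C] [CommRing B'] [CommRing C']
    (F : A' ⊗[A] B →+* B') (G : A' ⊗[A] C →+* C') (f : B →ₐ[A] C) (f' : B' →+* C')
    (h : ∀ a b, G (a ⊗ₜ f b) = f' (F (a ⊗ₜ b))) (x : A' ⊗[A] B) : G (BC A A' f x) = f' (F x) := by
  induction x using TensorProduct.induction_on with
  | zero => simp
  | tmul a b => simpa using h a b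
  | add x y hx hy => rw [map_add, map_add, map_add, map_add, hx, hy]

theorem JI_polynomial (f : ∀ i, B →+* C i) (hf : JI f) :
    JI (fun i => Polynomial.mapRingHom (f i)) := by
  suffices H : ∀ (d : ℕ) (h b : Polynomial B), h.degree < d →
      (∀ i, ∃ m, (h ^ m * b).map (f i) = 0) → ∃ m, h ^ m * b = 0 by
    intro h b hb
    refine H (h.natDegree + 1) h b ?_ hb
    exact lt_of_le_of_lt Polynomial.degree_le_natDegree (WithBot.coe_lt_coe.mpr (Nat.lt_succ_self _))
  intro d
  induction d with
  | zero =>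
    intro h b hd _
    refine ⟨1, ?_⟩
    have : h = 0 := Polynomial.degree_eq_bot.mp (by
      by_contra hne
      rw [Polynomial.degree_eq_natDegree (fun h0 => hne (by rw [h0, Polynomial.degree_zero]))] at hd
      exact Nat.not_lt_zero _ (WithBot.coe_lt_coe.mp hd))
    rw [this, pow_one, zero_mul]
  | succ d ih =>
    intro h b hd hb
    let a := h.coeff d
    have ha : ∀ l, ∃ N, a ^ N * b.coeff l = 0 := by
      intro l
      refine hf a _ fun i => ?_
      obtain ⟨m, hm⟩ := hb i
      rw [Polynomial.map_mul, Polynomial.map_pow] at hm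
      let φ := algebraMap (C i) (Localization.Away (f i a))
      have h1 : ((h.map (f i)).map φ) ^ m * (b.map (f i)).map φ = 0 := by
        rw [← Polynomial.map_pow, ← Polynomial.map_mul, hm, Polynomial.map_zero]
      by_cases htriv : Subsingleton (Localization.Away (f i a))
      · obtain ⟨⟨_, N, rfl⟩, hN⟩ := (IsLocalization.map_eq_zero_iff (Submonoid.powers (f i a))
          (Localization.Away (f i a)) (f i (b.coeff l))).mp (Subsingleton.elim _ _)
        exact ⟨N, by rw [map_mul, map_pow]; exact hN⟩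
      rw [not_subsingleton_iff_nontrivial] at htriv
      have hu : IsUnit (φ (f i a)) := IsLocalization.Away.algebraMap_isUnit (f i a)
      have hc : ((h.map (f i)).map φ).coeff d = φ (f i a) := by
        rw [Polynomial.coeff_map, Polynomial.coeff_map]
      have hdeg : ((h.map (f i)).map φ).natDegree = d := by
        refine le_antisymm ?_ (Polynomial.le_natDegree_of_ne_zero ?_)
        · rw [Polynomial.natDegree_le_iff_coeff_eq_zero]
          intro k hk
          rw [Polynomial.coeff_map, Polynomial.coeff_map, Polynomial.coeff_eq_zero_of_degree_lt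
            (lt_of_lt_of_le hd (WithBot.coe_le_coe.mpr hk)), map_zero, map_zero]
        · rw [hc]; exact hu.ne_zero
      have hlead : IsUnit ((h.map (f i)).map φ).leadingCoeff := by
        rw [Polynomial.leadingCoeff, hdeg, hc]; exact hu
      have h2 : (b.map (f i)).map φ = 0 := by
        have hmon : (Polynomial.C (hlead.unit⁻¹ : _ˣ).val * (h.map (f i)).map φ).Monic :=
          Polynomial.monic_C_mul_of_mul_leadingCoeff_eq_one hlead.val_inv_mul
        refine ((hmon.pow m).mul_right_eq_zero_iff (q := (b.map (f i)).map φ)).mp ?_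
        rw [mul_pow, mul_assoc, h1, mul_zero]
      have h3 := congrArg (fun q => Polynomial.coeff q l) h2
      simp only [Polynomial.coeff_map, Polynomial.coeff_zero] at h3
      obtain ⟨⟨_, N, rfl⟩, hN⟩ := (IsLocalization.map_eq_zero_iff (Submonoid.powers (f i a))
        (Localization.Away (f i a)) _).mp h3
      exact ⟨N, by rw [map_mul, map_pow]; exact hN⟩
    choose N hN using ha
    let N' := ∑ l ∈ b.support, N l
    have haN : Polynomial.C a ^ N' * b = 0 := by
      ext l
      rw [← Polynomial.C_pow, Polynomial.coeff_C_mul, Polynomial.coeff_zero]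
      by_cases hl : l ∈ b.support
      · obtain ⟨e, he⟩ : ∃ e, N' = e + N l := ⟨N' - N l, (Nat.sub_add_cancel
          (Finset.single_le_sum (fun k _ => Nat.zero_le (N k)) hl)).symm⟩
        rw [he, pow_add, mul_assoc, hN, mul_zero]
      · rw [Polynomial.notMem_support_iff.mp hl, mul_zero]
    let h' := h.erase d
    have hh : h' + Polynomial.monomial d a = h := by
      rw [add_comm]; exact Polynomial.monomial_add_erase h d
    have htop : Polynomial.monomial d a ^ N' * b = 0 := by
      rw [← Polynomial.C_mul_X_pow_eq_monomial, mul_pow, mul_right_comm, haN, zero_mul]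
    -- passing between `h` and `h'` modulo the radical of the annihilator
    have key : ∀ (R : Type u) [CommRing R] (x y c : R) (m k : ℕ), x ^ m * c = 0 → y ^ k * c = 0 →
        ∃ n, (x + y) ^ n * c = 0 := by
      intro R _ x y c m k hx hy
      let I : Ideal R := LinearMap.ker (LinearMap.mulRight R c)
      obtain ⟨n, hn⟩ := (I.radical.add_mem (⟨m, hx⟩ : x ∈ I.radical) (⟨k, hy⟩ : y ∈ I.radical))
      exact ⟨n, hn⟩
    obtain ⟨n, hn⟩ : ∃ n, h' ^ n * b = 0 := by
      refine ih h' b ?_ fun i => ?_
      · rw [Polynomial.degree_lt_iff_coeff_zero]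
        intro k hk
        rw [Polynomial.coeff_erase]
        split_ifs with hkd
        · rfl
        · exact Polynomial.coeff_eq_zero_of_degree_lt (lt_of_lt_of_le hd
            (WithBot.coe_le_coe.mpr (lt_of_le_of_ne hk (Ne.symm hkd))))
      · obtain ⟨m, hm⟩ := hb i
        rw [Polynomial.map_mul, Polynomial.map_pow] at hm
        obtain ⟨n, hn⟩ := key (Polynomial (C i)) (h.map (f i)) (-(Polynomial.monomial d a).map (f i))
          (b.map (f i)) m N' hm (by
            rw [neg_pow, mul_assoc, ← Polynomial.map_pow, ← Polynomial.map_mul, htop,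
              Polynomial.map_zero, mul_zero])
        refine ⟨n, ?_⟩
        rw [Polynomial.map_mul, Polynomial.map_pow, show h'.map (f i) =
          h.map (f i) + -(Polynomial.monomial d a).map (f i) by
            rw [← sub_eq_add_neg, ← Polynomial.map_sub]; congr 1; exact eq_sub_of_add_eq hh]
        exact hn
    obtain ⟨n', hn'⟩ := key _ h' (Polynomial.monomial d a) b n N' hn htop
    exact ⟨n', by rwa [hh] at hn'⟩

theorem JI_mvPolynomial (f : ∀ i, B →+* C i) (hf : JI f) : ∀ n : ℕ,
    JI (fun i => MvPolynomial.map (σ := Fin n) (f i)) := by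
  intro n
  induction n with
  | zero =>
    refine JI_congr (MvPolynomial.isEmptyRingEquiv B (Fin 0)).symm
      (fun i => (MvPolynomial.isEmptyRingEquiv (C i) (Fin 0)).symm) (fun i x => ?_) hf
    simp [MvPolynomial.map_C]
  | succ n ih =>
    refine JI_congr (MvPolynomial.finSuccEquiv B n).toRingEquiv.symm
      (fun i => (MvPolynomial.finSuccEquiv (C i) n).toRingEquiv.symm) (fun i x => ?_)
      (JI_polynomial _ ih)
    apply (MvPolynomial.finSuccEquiv (C i) n).injective
    show (MvPolynomial.finSuccEquiv (C i) n) ((MvPolynomial.finSuccEquiv (C i) n).symm _) = _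
    rw [AlgEquiv.apply_symm_apply]
    obtain ⟨x, rfl⟩ := (MvPolynomial.finSuccEquiv B n).surjective x
    show _ = (MvPolynomial.finSuccEquiv (C i) n)
      (MvPolynomial.map (f i) ((MvPolynomial.finSuccEquiv B n).symm (MvPolynomial.finSuccEquiv B n x)))
    rw [AlgEquiv.symm_apply_apply]
    induction x using MvPolynomial.induction_on with
    | C a => simp [MvPolynomial.finSuccEquiv_apply]
    | add p q hp hq => simp only [map_add, hp, hq]
    | mul_X p k hp =>
      simp only [map_mul, hp, MvPolynomial.map_X]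
      refine Fin.cases ?_ (fun j => ?_) k <;> simp [MvPolynomial.finSuccEquiv_apply]

theorem JI_BC_mvPolynomial (f : ∀ i, B →ₐ[A] C i) (hf : JI (fun i => (f i).toRingHom)) (n : ℕ) :
    JI (fun i => (BC A (MvPolynomial (Fin n) A) (f i)).toRingHom) := by
  let e' : ∀ (R : Type u) [CommRing R] [Algebra A R],
      MvPolynomial (Fin n) A ⊗[A] R ≃+* MvPolynomial (Fin n) R := fun R _ _ =>
    ((Algebra.TensorProduct.comm A (MvPolynomial (Fin n) A) R).toRingEquiv).trans
      (MvPolynomial.algebraTensorAlgEquiv A R).toRingEquiv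
  refine JI_congr (e' B).symm (fun i => (e' (C i)).symm) (fun i x => ?_) (JI_mvPolynomial _ hf n)
  obtain ⟨y, rfl⟩ := (e' B).surjective x
  rw [RingEquiv.symm_apply_apply, RingEquiv.symm_apply_eq]
  induction y using TensorProduct.induction_on with
  | zero => simp
  | tmul p b =>
    show MvPolynomial.map (f i).toRingHom ((MvPolynomial.algebraTensorAlgEquiv A B) (b ⊗ₜ p)) =
      (MvPolynomial.algebraTensorAlgEquiv A (C i)) (f i b ⊗ₜ p)
    rw [MvPolynomial.algebraTensorAlgEquiv_tmul, MvPolynomial.algebraTensorAlgEquiv_tmul]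
    simp [MvPolynomial.smul_eq_C_mul, MvPolynomial.map_map]
  | add p q hp hq => simp only [map_add, hp, hq]

theorem JI_tower {A' K : Type u} [CommRing A'] [Algebra A A'] [CommRing K] [Algebra A K] [Algebra A' K]
    [IsScalarTower A A' K] (f : ∀ i, B →ₐ[A] C i) :
    JI (fun i => (BC A' K (BC A A' (f i))).toRingHom) ↔ JI (fun i => (BC A K (f i)).toRingHom) := by
  have key : ∀ i (x : K ⊗[A'] (A' ⊗[A] B)),
      Algebra.TensorProduct.cancelBaseChange A A' K K (C i) (BC A' K (BC A A' (f i)) x) =
        BC A K (f i) (Algebra.TensorProduct.cancelBaseChange A A' K K B x) := by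
    intro i x
    induction x using TensorProduct.induction_on with
    | zero => simp
    | tmul a b =>
      induction b using TensorProduct.induction_on with
      | zero => simp
      | tmul s b => simp
      | add p q hp hq => rw [TensorProduct.tmul_add, map_add, map_add, map_add, map_add, hp, hq]
    | add p q hp hq => rw [map_add, map_add, map_add, map_add, hp, hq]
  constructor
  · exact JI_congr (Algebra.TensorProduct.cancelBaseChange A A' K K B).toRingEquiv
      (fun i => (Algebra.TensorProduct.cancelBaseChange A A' K K (C i)).toRingEquiv) key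
  · exact JI_congr (Algebra.TensorProduct.cancelBaseChange A A' K K B).symm.toRingEquiv
      (fun i => (Algebra.TensorProduct.cancelBaseChange A A' K K (C i)).symm.toRingEquiv) fun i x => by
        obtain ⟨x, rfl⟩ := (Algebra.TensorProduct.cancelBaseChange A A' K K B).surjective x
        apply (Algebra.TensorProduct.cancelBaseChange A A' K K (C i)).injective
        show (Algebra.TensorProduct.cancelBaseChange A A' K K (C i))
          ((Algebra.TensorProduct.cancelBaseChange A A' K K (C i)).symm _) = _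
        rw [AlgEquiv.apply_symm_apply]
        show BC A K (f i) _ = (Algebra.TensorProduct.cancelBaseChange A A' K K (C i))
          (BC A' K (BC A A' (f i)) ((Algebra.TensorProduct.cancelBaseChange A A' K K B).symm _))
        rw [AlgEquiv.symm_apply_apply, key]

theorem JI_localization {P L : Type u} [CommRing P] [Algebra A P] [CommRing L] [Algebra A L]
    (φ : P →ₐ[A] L) (hφ : Function.Injective φ) (hl : ∀ l, ∃ s t, IsUnit (φ s) ∧ φ s * l = φ t)
    [∀ i, Module.Flat A (C i)] (f : ∀ i, B →ₐ[A] C i)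
    (hP : JI (fun i => (BC A P (f i)).toRingHom)) : JI (fun i => (BC A L (f i)).toRingHom) := by
  let ψ := Algebra.TensorProduct.map φ (AlgHom.id A B)
  have hfrac : ∀ y, ∃ s t, IsUnit (φ s) ∧ (φ s ⊗ₜ[A] (1 : B)) * y = ψ t := by
    intro y
    induction y using TensorProduct.induction_on with
    | zero => exact ⟨1, 0, by simp, by simp⟩
    | tmul l b =>
      obtain ⟨s, t, hs, hst⟩ := hl l
      exact ⟨s, t ⊗ₜ b, hs, by simp [ψ, Algebra.TensorProduct.tmul_mul_tmul, hst]⟩
    | add p q hp hq =>
      obtain ⟨s, t, hs, hst⟩ := hp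
      obtain ⟨s', t', hs', hst'⟩ := hq
      refine ⟨s * s', (s' ⊗ₜ 1) * t + (s ⊗ₜ 1) * t', by rw [map_mul]; exact hs.mul hs', ?_⟩
      simp only [map_add, map_mul]
      rw [← hst, ← hst', show (φ s * φ s') ⊗ₜ[A] (1 : B) =
        (φ s ⊗ₜ 1) * (φ s' ⊗ₜ 1) by rw [Algebra.TensorProduct.tmul_mul_tmul, _root_.one_mul]]
      simp only [ψ, Algebra.TensorProduct.map_tmul, map_one]
      ring
  intro h x hx
  obtain ⟨s, h₀, hs, hh⟩ := hfrac h
  obtain ⟨s', x₀, hs', hxx⟩ := hfrac x
  obtain ⟨M, hM⟩ := hP h₀ x₀ fun i => by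
    obtain ⟨m, hm⟩ := hx i
    refine ⟨m, ?_⟩
    have hinj : Function.Injective (Algebra.TensorProduct.map φ (AlgHom.id A (C i))) :=
      Module.Flat.rTensor_preserves_injective_linearMap φ.toLinearMap hφ
    apply hinj
    have hnat : ∀ z, Algebra.TensorProduct.map φ (AlgHom.id A (C i)) (BC A P (f i) z) =
        BC A L (f i) (ψ z) := fun z => by
      induction z using TensorProduct.induction_on with
      | zero => simp
      | tmul a b => simp [ψ]
      | add p q hp hq => rw [map_add, map_add, map_add, map_add, hp, hq]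
    rw [map_zero]
    show Algebra.TensorProduct.map φ (AlgHom.id A (C i)) (BC A P (f i) _) = 0
    rw [hnat, map_mul, map_pow, ← hh, ← hxx, mul_pow, mul_mul_mul_comm, map_mul,
      show BC A L (f i) (h ^ m * x) = 0 from hm, mul_zero]
  refine ⟨M, ?_⟩
  have h1 := congrArg ψ hM
  rw [map_zero, map_mul, map_pow, ← hh, ← hxx, mul_pow, mul_mul_mul_comm] at h1
  have hu : ∀ z, IsUnit (φ z) → IsUnit (φ z ⊗ₜ[A] (1 : B)) := fun z hz =>
    hz.map (Algebra.TensorProduct.includeLeft (R := A) (S := A) (A := L) (B := B))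
  exact (((hu s hs).pow M).mul (hu s' hs')).mul_right_eq_zero.mp h1

end BaseChange

section Field

variable {k : Type u} [Field k] {R : Type u} [CommRing R] [Algebra k R]
  {ι : Type u} {D : ι → Type u} [∀ i, CommRing (D i)] [∀ i, Algebra k (D i)]

theorem JI_algebraic {K : Type u} [Field K] [Algebra k K] [Algebra.IsAlgebraic k K]
    [IsNoetherianRing (K ⊗[k] R)] (f : ∀ i, R →ₐ[k] D i) (hf : JI (fun i => (f i).toRingHom)) :
    JI (fun i => (BC k K (f i)).toRingHom) := by
  intro h b hb
  by_contra hcon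
  push Not at hcon
  let S : Set (Ideal (K ⊗[k] R)) :=
    {I | ∃ c, (∀ m, h ^ m * (c * b) ≠ 0) ∧ I = LinearMap.ker (LinearMap.mulRight _ (c * b))}
  obtain ⟨Q, ⟨c, hc, hQdef⟩, hmax⟩ := set_has_maximal_iff_noetherian.mpr inferInstance S
    ⟨_, 1, by simpa using hcon, rfl⟩
  have hQ : ∀ u, u ∈ Q ↔ u * (c * b) = 0 := fun u => by rw [hQdef]; rfl
  have hprime : Ideal.IsPrime Q := by
    refine ⟨?_, ?_⟩
    · rw [Ideal.ne_top_iff_one, hQ, _root_.one_mul]
      simpa using hc 0
    · intro u v huv
      by_contra hne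
      push Not at hne
      by_cases hv : ∀ m, h ^ m * (v * c * b) ≠ 0
      · refine hne.1 ?_
        have hle : Q ≤ LinearMap.ker (LinearMap.mulRight _ (v * c * b)) := fun w hw => by
          show w * (v * c * b) = 0
          rw [show w * (v * c * b) = v * (w * (c * b)) by ring, (hQ w).mp hw, mul_zero]
        rw [eq_of_le_of_not_lt hle (hmax _ ⟨v * c, hv, rfl⟩)]
        show u * (v * c * b) = 0
        rw [show u * (v * c * b) = u * v * (c * b) by ring, (hQ _).mp huv]
      · push Not at hv
        obtain ⟨m, hm⟩ := hv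
        refine hne.2 ?_
        have hle : Q ≤ LinearMap.ker (LinearMap.mulRight _ (h ^ m * c * b)) := fun w hw => by
          show w * (h ^ m * c * b) = 0
          rw [show w * (h ^ m * c * b) = h ^ m * (w * (c * b)) by ring, (hQ w).mp hw, mul_zero]
        rw [eq_of_le_of_not_lt hle (hmax _ ⟨h ^ m * c, fun l hl => hc (l + m) (by
          rw [pow_add, show h ^ l * h ^ m * (c * b) = h ^ l * (h ^ m * c * b) by ring, hl]), rfl⟩)]
        show v * (h ^ m * c * b) = 0
        rw [show v * (h ^ m * c * b) = h ^ m * (v * c * b) by ring, hm]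
  have hhQ : h ∉ Q := fun hh => hc 1 (by rw [pow_one]; exact (hQ h).mp hh)
  letI : Algebra R (K ⊗[k] R) := Algebra.TensorProduct.rightAlgebra
  have hint : ∀ y : K ⊗[k] R, IsIntegral R y := by
    intro y
    induction y using TensorProduct.induction_on with
    | zero => exact isIntegral_zero
    | tmul a r =>
      rw [show a ⊗ₜ[k] r = (a ⊗ₜ 1) * algebraMap R (K ⊗[k] R) r by
        rw [show algebraMap R (K ⊗[k] R) r = 1 ⊗ₜ r from rfl, Algebra.TensorProduct.tmul_mul_tmul,
          _root_.mul_one, _root_.one_mul]]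
      refine IsIntegral.mul ?_ isIntegral_algebraMap
      exact ((Algebra.IsIntegral.isIntegral (R := k) a).map
        (Algebra.TensorProduct.includeLeft (R := k) (S := k) (A := K) (B := R))).tower_top
    | add p q hp hq => exact hp.add hq
  obtain ⟨p, hp0, hp⟩ := hint h
  have hlt : Ideal.comap (algebraMap R (K ⊗[k] R)) Q < Ideal.comap (algebraMap R (K ⊗[k] R)) (Q ⊔ Ideal.span {h}) :=
    haveI := hprime
    Ideal.comap_lt_comap_of_integral_mem_sdiff le_sup_left
      ⟨Ideal.mem_sup_right (Ideal.mem_span_singleton_self h), hhQ⟩ ⟨p, hp0, hp⟩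
  obtain ⟨r, hr, hrQ⟩ := SetLike.exists_of_lt hlt
  obtain ⟨q, hq, z, hz, hqz⟩ := Submodule.mem_sup.mp hr
  obtain ⟨d, rfl⟩ := Ideal.mem_span_singleton'.mp hz
  -- coordinates
  let bK := Module.Free.chooseBasis k K
  let E := TensorProduct.equivFinsuppOfBasisLeft (N := R) bK
  have hlin : ∀ (S : Type u) [CommRing S] [Algebra k S] (s : S) (y : K ⊗[k] S) j,
      TensorProduct.equivFinsuppOfBasisLeft (N := S) bK ((1 ⊗ₜ s) * y) j =
        s * TensorProduct.equivFinsuppOfBasisLeft (N := S) bK y j := by
    intro S _ _ s y j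
    induction y using TensorProduct.induction_on with
    | zero => simp
    | tmul a t => simp [Algebra.TensorProduct.tmul_mul_tmul]
    | add p q hp hq => simp only [mul_add, map_add, Finsupp.add_apply, hp, hq]
  have hnat : ∀ i (y : K ⊗[k] R) j, TensorProduct.equivFinsuppOfBasisLeft (N := D i) bK (BC k K (f i) y) j =
      f i (E y j) := by
    intro i y j
    induction y using TensorProduct.induction_on with
    | zero => simp
    | tmul a t => simp [E]
    | add p q hp hq => simp only [map_add, Finsupp.add_apply, hp, hq]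
  have hkill : ∀ j, ∃ M, r ^ M * E (c * b) j = 0 := by
    intro j
    refine hf r _ fun i => ?_
    obtain ⟨m, hm⟩ := hb i
    refine ⟨m, ?_⟩
    have h1 : BC k K (f i) ((1 ⊗ₜ (r ^ m)) * (c * b)) = 0 := by
      have h2 : ((1 : K) ⊗ₜ[k] (r ^ m) - d ^ m * h ^ m) ∈ Q := by
        rw [← mul_pow, show (1 : K) ⊗ₜ[k] (r ^ m) = (1 ⊗ₜ r) ^ m by
          rw [Algebra.TensorProduct.tmul_pow, one_pow]]
        refine Ideal.mem_of_dvd _ (sub_dvd_pow_sub_pow _ _ m) ?_
        rwa [show (1 : K) ⊗ₜ[k] r = algebraMap R (K ⊗[k] R) r from rfl, ← hqz, add_sub_cancel_right]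
      rw [show (1 ⊗ₜ[k] (r ^ m)) * (c * b) = ((1 : K) ⊗ₜ[k] (r ^ m) - d ^ m * h ^ m) * (c * b) +
        d ^ m * c * (h ^ m * b) by ring, (hQ _).mp h2, zero_add, map_mul,
        show BC k K (f i) (h ^ m * b) = 0 from hm, mul_zero]
    show f i _ = 0
    rw [← hlin R, ← hnat, h1, map_zero]
    rfl
  choose M hM using hkill
  let M' := ∑ j ∈ (E (c * b)).support, M j
  refine hrQ (hprime.mem_of_pow_mem M' ((hQ _).mpr (E.injective (Finsupp.ext fun j => ?_))))
  rw [show algebraMap R (K ⊗[k] R) r ^ M' = 1 ⊗ₜ (r ^ M') by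
    rw [← map_pow]; rfl, hlin, map_zero, Finsupp.zero_apply]
  by_cases hj : j ∈ (E (c * b)).support
  · obtain ⟨e, he⟩ : ∃ e, M' = e + M j := ⟨M' - M j, (Nat.sub_add_cancel
      (Finset.single_le_sum (fun l _ => Nat.zero_le (M l)) hj)).symm⟩
    rw [he, pow_add, mul_assoc, hM, mul_zero]
  · rw [Finsupp.notMem_support_iff.mp hj, mul_zero]

theorem JI_field_aux {L K : Type u} [Field L] [Field K] [Algebra k L] [Algebra k K] [Algebra L K]
    [IsScalarTower k L K] [Algebra.IsAlgebraic L K] [IsNoetherianRing (K ⊗[k] R)] (f : ∀ i, R →ₐ[k] D i)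
    (hL : JI (fun i => (BC k L (f i)).toRingHom)) : JI (fun i => (BC k K (f i)).toRingHom) := by
  haveI : IsNoetherianRing (K ⊗[L] (L ⊗[k] R)) := isNoetherianRing_of_ringEquiv (K ⊗[k] R)
    (Algebra.TensorProduct.cancelBaseChange k L K K R).symm.toRingEquiv
  exact (JI_tower (A := k) (A' := L) (K := K) f).mp (JI_algebraic (fun i => BC k L (f i)) hL)

theorem JI_field {K : Type u} [Field K] [Algebra k K] [Algebra.EssFiniteType k K] [IsNoetherianRing R]
    (f : ∀ i, R →ₐ[k] D i) (hf : JI (fun i => (f i).toRingHom)) :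
    JI (fun i => (BC k K (f i)).toRingHom) := by
  obtain ⟨σ, hσ⟩ := (Algebra.essFiniteType_iff k K).mp inferInstance
  haveI : Algebra.IsAlgebraic (Algebra.adjoin k (σ : Set K)) K := ⟨fun a => by
    obtain ⟨t, ht, htu, hat⟩ := hσ a
    refine ⟨Polynomial.C ⟨t, ht⟩ * Polynomial.X - Polynomial.C ⟨a * t, hat⟩, ?_, ?_⟩
    · intro h0
      have := congrArg (fun q => (Polynomial.coeff q 1 : Algebra.adjoin k (σ : Set K)).1) h0
      simp at this
      exact htu.ne_zero this
    · simp only [map_sub, map_mul, Polynomial.aeval_C, Polynomial.aeval_X]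
      show t * a - a * t = 0
      ring⟩
  obtain ⟨T, hT, hTb⟩ := exists_isTranscendenceBasis_subset (R := k) (σ : Set K)
  haveI : Fintype T := (σ.finite_toSet.subset hT).fintype
  let x : Fin (Fintype.card T) → K := fun j => ((Fintype.equivFin T).symm j : K)
  have hx : IsTranscendenceBasis k x := hTb.comp_equiv (Fintype.equivFin T).symm
  let L := IntermediateField.adjoin k (Set.range x)
  let φ : MvPolynomial (Fin (Fintype.card T)) k →ₐ[k] L :=
    MvPolynomial.aeval fun j => (⟨x j, IntermediateField.subset_adjoin k _ ⟨j, rfl⟩⟩ : L)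
  have hval : ∀ p, (φ p : K) = MvPolynomial.aeval x p := fun p => by
    show L.val (φ p) = _
    rw [← AlgHom.comp_apply, MvPolynomial.comp_aeval]
    rfl
  have hφ : Function.Injective φ := fun p q hpq => hx.1 (by rw [← hval, ← hval, hpq])
  have hl : ∀ l, ∃ s t, IsUnit (φ s) ∧ φ s * l = φ t := by
    rintro ⟨l, hl⟩
    obtain ⟨r, hr, s, hs, rfl⟩ := IntermediateField.mem_adjoin_iff_div.mp hl
    rw [Algebra.adjoin_range_eq_range_aeval] at hr hs
    obtain ⟨r, rfl⟩ := hr
    obtain ⟨s, rfl⟩ := hs
    by_cases h0 : MvPolynomial.aeval x s = 0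
    · exact ⟨1, 0, by simp, Subtype.ext (by simp [h0])⟩
    · refine ⟨s, r, isUnit_iff_ne_zero.mpr fun h => h0 (by rw [← hval, h]; rfl), Subtype.ext ?_⟩
      push_cast
      rw [hval, hval]
      exact mul_div_cancel₀ _ h0
  have hL := JI_localization φ hφ hl f (JI_BC_mvPolynomial f hf (Fintype.card T))
  haveI : Algebra.IsAlgebraic L K := hx.isAlgebraic_field
  haveI : IsNoetherianRing (R ⊗[k] K) := Algebra.EssFiniteType.isNoetherianRing R _
  haveI : IsNoetherianRing (K ⊗[k] R) := isNoetherianRing_of_ringEquiv _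
    (Algebra.TensorProduct.comm k R K).toRingEquiv
  exact JI_field_aux (L := L) f hL

end Field

section Univ

variable {A : Type u} [CommRing A] {B : Type u} [CommRing B] [Algebra A B]
  {ι : Type u} {C : ι → Type u} [∀ i, CommRing (C i)] [∀ i, Algebra A (C i)]

theorem exists_subalgebra (A' : Type u) [CommRing A'] [Algebra A A'] (y : A' ⊗[A] B) :
    ∃ s : Finset A', ∀ S : Subalgebra A A', (s : Set A') ⊆ S →
      ∃ y' : S ⊗[A] B, Algebra.TensorProduct.map S.val (AlgHom.id A B) y' = y := by
  classical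
  induction y using TensorProduct.induction_on with
  | zero => exact ⟨∅, fun S _ => ⟨0, map_zero _⟩⟩
  | tmul a b =>
    exact ⟨{a}, fun S hS => ⟨⟨a, hS (Finset.mem_singleton_self a)⟩ ⊗ₜ b, by simp⟩⟩
  | add p q hp hq =>
    obtain ⟨s, hs⟩ := hp
    obtain ⟨t, ht⟩ := hq
    refine ⟨s ∪ t, fun S hS => ?_⟩
    rw [Finset.coe_union, Set.union_subset_iff] at hS
    obtain ⟨p', hp'⟩ := hs S hS.1
    obtain ⟨q', hq'⟩ := ht S hS.2
    exact ⟨p' + q', by rw [map_add, hp', hq']⟩

/-- EGA IV 11.10.9, universal form. -/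
theorem JI_univ [IsNoetherianRing B] [∀ i, Module.Flat A (C i)] (f : ∀ i, B →ₐ[A] C i)
    (hfib : ∀ (p : Ideal A) [p.IsPrime], JI (fun i => (BC A p.ResidueField (f i)).toRingHom))
    (A' : Type u) [CommRing A'] [Algebra A A'] : JI (fun i => (BC A A' (f i)).toRingHom) := by
  classical
  intro h x hx
  obtain ⟨s, hs⟩ := exists_subalgebra A' h
  obtain ⟨t, ht⟩ := exists_subalgebra A' x
  let S := Algebra.adjoin A ((s ∪ t : Finset A') : Set A')
  obtain ⟨h', rfl⟩ := hs S (fun a ha => Algebra.subset_adjoin (Finset.coe_subset.mpr Finset.subset_union_left ha))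
  obtain ⟨x', rfl⟩ := ht S (fun a ha => Algebra.subset_adjoin (Finset.coe_subset.mpr Finset.subset_union_right ha))
  haveI : Algebra.FiniteType A S :=
    (Subalgebra.fg_iff_finiteType _).mp (Subalgebra.fg_adjoin_finset _)
  haveI : IsNoetherianRing (B ⊗[A] S) := Algebra.FiniteType.isNoetherianRing B _
  haveI : IsNoetherianRing (S ⊗[A] B) := isNoetherianRing_of_ringEquiv _
    (Algebra.TensorProduct.comm A B S).toRingEquiv
  have hflat : ∀ i, Module.Flat S (S ⊗[A] C i) := fun i => inferInstance
  have hJI : JI (fun i => (BC A S (f i)).toRingHom) := by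
    refine JI_of_fibre (fun i => BC A S (f i)) fun P hP => ?_
    haveI := hP
    refine (JI_tower f).mpr ?_
    let p : Ideal A := P.comap (algebraMap A S)
    letI : Algebra p.ResidueField P.ResidueField :=
      (Ideal.ResidueField.map p P (algebraMap A S) rfl).toAlgebra
    haveI : IsScalarTower A p.ResidueField P.ResidueField := IsScalarTower.of_algebraMap_eq fun a => by
      rw [RingHom.algebraMap_toAlgebra, Ideal.ResidueField.map_algebraMap]
      exact IsScalarTower.algebraMap_apply A S P.ResidueField a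
    haveI : Algebra.EssFiniteType A P.ResidueField := .comp A S _
    haveI : Algebra.EssFiniteType p.ResidueField P.ResidueField := .of_comp A _ _
    haveI : IsNoetherianRing (B ⊗[A] p.ResidueField) := Algebra.EssFiniteType.isNoetherianRing B _
    haveI : IsNoetherianRing (p.ResidueField ⊗[A] B) := isNoetherianRing_of_ringEquiv _
      (Algebra.TensorProduct.comm A B p.ResidueField).toRingEquiv
    exact (JI_tower f).mp (JI_field (fun i => BC A p.ResidueField (f i)) (hfib p))
  have hnat : ∀ i y, Algebra.TensorProduct.map S.val (AlgHom.id A (C i)) (BC A S (f i) y) =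
      BC A A' (f i) (Algebra.TensorProduct.map S.val (AlgHom.id A B) y) := fun i y => by
    induction y using TensorProduct.induction_on with
    | zero => simp
    | tmul a b => simp
    | add p q hp hq => rw [map_add, map_add, map_add, map_add, hp, hq]
  obtain ⟨m, hm⟩ := hJI h' x' fun i => by
    obtain ⟨m, hm⟩ := hx i
    refine ⟨m, ?_⟩
    have hinj : Function.Injective (Algebra.TensorProduct.map S.val (AlgHom.id A (C i))) :=
      Module.Flat.rTensor_preserves_injective_linearMap S.val.toLinearMap Subtype.val_injective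
    apply hinj
    rw [map_zero]
    show Algebra.TensorProduct.map S.val (AlgHom.id A (C i)) (BC A S (f i) _) = 0
    rw [hnat, map_mul, map_pow]
    exact hm
  exact ⟨m, by rw [← map_pow, ← map_mul, hm, map_zero]⟩

/-- EGA IV 11.10.6: over a field dominance is universal. -/
theorem JI_univ_field {k : Type u} [Field k] {R : Type u} [CommRing R] [Algebra k R] {D : ι → Type u}
    [∀ i, CommRing (D i)] [∀ i, Algebra k (D i)] (f : ∀ i, R →ₐ[k] D i)
    (hf : JI (fun i => (f i).toRingHom)) (A' : Type u) [CommRing A'] [Algebra k A'] :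
    JI (fun i => (BC k A' (f i)).toRingHom) := by
  classical
  intro h x hx
  obtain ⟨s, hs⟩ := exists_subalgebra (A := k) (B := A') R ((Algebra.TensorProduct.comm k A' R) h)
  obtain ⟨t, ht⟩ := exists_subalgebra (A := k) (B := A') R ((Algebra.TensorProduct.comm k A' R) x)
  let R₀ := Algebra.adjoin k ((s ∪ t : Finset R) : Set R)
  obtain ⟨h', hh'⟩ := hs R₀ (fun a ha => Algebra.subset_adjoin (Finset.coe_subset.mpr Finset.subset_union_left ha))
  obtain ⟨x', hx'⟩ := ht R₀ (fun a ha => Algebra.subset_adjoin (Finset.coe_subset.mpr Finset.subset_union_right ha))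
  haveI : Algebra.FiniteType k R₀ := (Subalgebra.fg_iff_finiteType _).mp (Subalgebra.fg_adjoin_finset _)
  haveI : IsNoetherianRing R₀ := Algebra.FiniteType.isNoetherianRing k _
  let g := fun i => (f i).comp R₀.val
  have hg : JI (fun i => (g i).toRingHom) := fun a b hab => by
    obtain ⟨m, hm⟩ := hf a b hab
    exact ⟨m, Subtype.ext (by push_cast; exact hm)⟩
  have hJ : JI (fun i => (BC k A' (g i)).toRingHom) :=
    JI_univ g (fun p _ => JI_field g hg) A'
  let j := Algebra.TensorProduct.map (AlgHom.id A' A') R₀.val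
  have hj : ∀ y : R₀ ⊗[k] A', j (Algebra.TensorProduct.comm k R₀ A' y) =
      (Algebra.TensorProduct.comm k A' R).symm (Algebra.TensorProduct.map R₀.val (AlgHom.id k A') y) := by
    intro y
    induction y using TensorProduct.induction_on with
    | zero => simp
    | tmul a b => simp [j]
    | add p q hp hq => simp only [map_add, hp, hq]
  have hh : h = j (Algebra.TensorProduct.comm k R₀ A' h') := by rw [hj, hh', AlgEquiv.symm_apply_apply]
  have hxx : x = j (Algebra.TensorProduct.comm k R₀ A' x') := by rw [hj, hx', AlgEquiv.symm_apply_apply]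
  have hnat : ∀ i y, BC k A' (f i) (j y) = BC k A' (g i) y := fun i y => by
    induction y using TensorProduct.induction_on with
    | zero => simp
    | tmul a b => simp [j, g]
    | add p q hp hq => simp only [map_add, hp, hq]
  obtain ⟨m, hm⟩ := hJ (Algebra.TensorProduct.comm k R₀ A' h') (Algebra.TensorProduct.comm k R₀ A' x') fun i => by
    obtain ⟨m, hm⟩ := hx i
    refine ⟨m, ?_⟩
    show BC k A' (g i) _ = 0
    rw [← hnat, map_mul, map_pow, ← hh, ← hxx]
    exact hm
  exact ⟨m, by rw [hh, hxx, ← map_pow, ← map_mul, hm, map_zero]⟩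

end Univ

end Groth.Agent.SchDom
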