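import Mathlib
import Groth.Agent.SchDom.Ring

/-!
Schematically dominant families of morphisms on affine opens.
-/

set_option autoImplicit false
set_option linter.style.haveILetI false
universe u
open scoped TensorProduct
open CategoryTheory AlgebraicGeometry Opposite

noncomputable section

namespace Groth.Agent.SchDom

/-- A schematically dominant family. -/
def SD {X : Scheme.{u}} {ι : Type u} {Z : ι → Scheme.{u}} (f : ∀ i, Z i ⟶ X) : Prop :=
  ∀ (V : X.Opens) (t : Γ(X, V)), (∀ i, (f i).app V t = 0) → t = 0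

section Local

variable {X : Scheme.{u}} {ι : Type u} {Z : ι → Scheme.{u}} {f : ∀ i, Z i ⟶ X}
  {W : X.Opens} {κ : ι → Type u} {U : ∀ i, κ i → (Z i).Opens}

theorem app_map_eq {Y : Scheme.{u}} (φ : Y ⟶ X) {V : X.Opens} {U' W' : Y.Opens} (e : U' ≤ φ ⁻¹ᵁ W)
    (hV : V ≤ W) (hW' : W' ≤ U') (e' : W' ≤ φ ⁻¹ᵁ V) (b : Γ(X, W)) :
    Y.presheaf.map (homOfLE e').op (φ.app V (X.presheaf.map (homOfLE hV).op b)) =
      Y.presheaf.map (homOfLE hW').op (φ.appLE W U' e b) := by
  show (X.presheaf.map (homOfLE hV).op ≫ φ.appLE V W' e') b = (φ.appLE W U' e ≫ _) b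
  rw [Scheme.Hom.map_appLE, Scheme.Hom.appLE_map]

theorem SD.JI (hf : SD f) (hW : IsAffineOpen W) (e : ∀ i k, U i k ≤ f i ⁻¹ᵁ W)
    (hcov : ∀ i (z : Z i), f i z ∈ W → ∃ k, z ∈ U i k) :
    JI (fun a : Σ i, κ i => ((f a.1).appLE W (U a.1 a.2) (e a.1 a.2)).hom) := by
  intro h b hb
  let D := X.basicOpen h
  have hD : D ≤ W := X.basicOpen_le h
  have ht : X.presheaf.map (homOfLE hD).op b = 0 := by
    refine hf D _ fun i => ?_
    refine TopCat.Sheaf.eq_of_locally_eq' (Z i).sheaf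
      (fun k => U i k ⊓ f i ⁻¹ᵁ D) (f i ⁻¹ᵁ D) (fun k => homOfLE inf_le_right) ?_ _ _ fun k => ?_
    · intro z hz
      obtain ⟨k, hk⟩ := hcov i z (hD hz)
      exact TopologicalSpace.Opens.mem_iSup.mpr ⟨k, hk, hz⟩
    · erw [map_zero]
      obtain ⟨m, hm⟩ := hb ⟨i, k⟩
      show (Z i).presheaf.map (homOfLE (inf_le_right : U i k ⊓ f i ⁻¹ᵁ D ≤ _)).op _ = 0
      rw [app_map_eq (f i) (e i k) hD inf_le_left inf_le_right b]
      have hle : U i k ⊓ f i ⁻¹ᵁ D ≤ (Z i).basicOpen ((f i).appLE W (U i k) (e i k) h) := by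
        rw [Scheme.basicOpen_appLE]
      have hu : IsUnit ((Z i).presheaf.map (homOfLE (inf_le_left : U i k ⊓ f i ⁻¹ᵁ D ≤ _)).op
          ((f i).appLE W (U i k) (e i k) h)) := by
        have hu0 : IsUnit ((Z i).presheaf.map (homOfLE ((Z i).basicOpen_le
            ((f i).appLE W (U i k) (e i k) h))).op ((f i).appLE W (U i k) (e i k) h)) :=
          (Z i).toRingedSpace.isUnit_res_basicOpen _
        have h' := hu0.map ((Z i).presheaf.map (homOfLE hle).op).hom
        rwa [show ((Z i).presheaf.map (homOfLE hle).op).hom ((Z i).presheaf.map (homOfLE ((Z i).basicOpen_le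
            ((f i).appLE W (U i k) (e i k) h))).op ((f i).appLE W (U i k) (e i k) h)) =
            (Z i).presheaf.map (homOfLE (inf_le_left : U i k ⊓ f i ⁻¹ᵁ D ≤ _)).op
              ((f i).appLE W (U i k) (e i k) h) by
          show ((Z i).presheaf.map _ ≫ (Z i).presheaf.map _) _ = _
          rw [← Functor.map_comp]
          rfl] at h'
      have h1 : (f i).appLE W (U i k) (e i k) (h ^ m * b) = 0 := hm
      have h2 := congrArg ((Z i).presheaf.map (homOfLE (inf_le_left : U i k ⊓ f i ⁻¹ᵁ D ≤ _)).op) h1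
      rw [map_mul, map_pow, map_mul, map_pow, map_zero] at h2
      exact (hu.pow m).mul_right_eq_zero.mp h2
  haveI := hW.isLocalization_basicOpen h
  obtain ⟨⟨_, m, rfl⟩, hm⟩ := (IsLocalization.map_eq_zero_iff (Submonoid.powers h) Γ(X, X.basicOpen h) b).mp ht
  exact ⟨m, hm⟩

theorem SD.of_JI
    (h : ∀ x : X, ∃ (W : X.Opens) (_ : IsAffineOpen W) (κ : ι → Type u) (U : ∀ i, κ i → (Z i).Opens)
      (e : ∀ i k, U i k ≤ f i ⁻¹ᵁ W) (_ : ∀ i k, IsAffineOpen (U i k)), x ∈ W ∧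
        SchDom.JI (fun a : Σ i, κ i => ((f a.1).appLE W (U a.1 a.2) (e a.1 a.2)).hom)) :
    SD f := by
  intro V t ht
  refine TopCat.Presheaf.section_ext X.sheaf V _ _ fun x hx => ?_
  erw [map_zero]
  obtain ⟨W, hW, κ, U, e, hU, hxW, hJI⟩ := h x
  obtain ⟨a, haV, hxa⟩ := hW.exists_basicOpen_le (V := V) ⟨x, hx⟩ hxW
  haveI := hW.isLocalization_basicOpen a
  obtain ⟨b, ⟨_, n, rfl⟩, hb⟩ := IsLocalization.exists_mk'_eq (Submonoid.powers a)
    (X.presheaf.map (homOfLE haV).op t)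
  have hD : X.basicOpen a ≤ W := X.basicOpen_le a
  have hbt : X.presheaf.map (homOfLE hD).op b = X.presheaf.map (homOfLE hD).op (a ^ n) *
      X.presheaf.map (homOfLE haV).op t := by
    rw [← hb, mul_comm]
    exact (IsLocalization.mk'_spec _ _ _).symm
  obtain ⟨M, hM⟩ := hJI a b fun ⟨i, k⟩ => by
    haveI := (hU i k).isLocalization_basicOpen ((f i).appLE W (U i k) (e i k) a)
    have hle : (Z i).basicOpen ((f i).appLE W (U i k) (e i k) a) ≤ f i ⁻¹ᵁ X.basicOpen a := by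
      rw [Scheme.basicOpen_appLE]; exact inf_le_right
    have h0 : algebraMap Γ(Z i, U i k) Γ(Z i, (Z i).basicOpen ((f i).appLE W (U i k) (e i k) a))
        ((f i).appLE W (U i k) (e i k) b) = 0 := by
      show (Z i).presheaf.map (homOfLE ((Z i).basicOpen_le _)).op _ = 0
      rw [← app_map_eq (f i) (e i k) hD ((Z i).basicOpen_le _) hle b, hbt, map_mul, map_mul]
      have h3 : (f i).app (X.basicOpen a) (X.presheaf.map (homOfLE haV).op t) = 0 := by
        show (X.presheaf.map (homOfLE haV).op ≫ (f i).app (X.basicOpen a)) t = 0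
        rw [Scheme.Hom.naturality, CommRingCat.comp_apply, ht i, map_zero]
      rw [h3, map_zero, mul_zero]
    obtain ⟨⟨_, m, rfl⟩, hm⟩ := (IsLocalization.map_eq_zero_iff
      (Submonoid.powers ((f i).appLE W (U i k) (e i k) a)) _ _).mp h0
    exact ⟨m, by rw [map_mul, map_pow]; exact hm⟩
  have hu : IsUnit (X.presheaf.map (homOfLE hD).op a) := X.toRingedSpace.isUnit_res_basicOpen a
  have hzero : X.presheaf.map (homOfLE haV).op t = 0 := by
    have h2 := congrArg (X.presheaf.map (homOfLE hD).op) hM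
    rw [map_mul, map_pow, hbt, map_pow, map_zero] at h2
    exact (hu.pow n).mul_right_eq_zero.mp ((hu.pow M).mul_right_eq_zero.mp h2)
  show X.presheaf.germ V x hx t = 0
  rw [← X.presheaf.germ_res_apply (homOfLE haV) x hxa]
  show X.presheaf.germ (X.basicOpen a) x hxa (X.presheaf.map (homOfLE haV).op t) = _
  rw [hzero, map_zero]

end Local

theorem JI_descend {A B : Type u} [CommRing A] [CommRing B] [Algebra A B] {ι : Type u} {C : ι → Type u}
    [∀ i, CommRing (C i)] [∀ i, Algebra A (C i)] {k₀ k : Type u} [Field k₀] [Algebra A k₀] [CommRing k]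
    [Algebra A k] (φ : k₀ →ₐ[A] k) (hφ : Function.Injective φ) (f : ∀ i, B →ₐ[A] C i)
    (hk : JI (fun i => (BC A k (f i)).toRingHom)) : JI (fun i => (BC A k₀ (f i)).toRingHom) := by
  letI : Algebra k₀ k := φ.toRingHom.toAlgebra
  haveI : IsScalarTower A k₀ k := IsScalarTower.of_algebraMap_eq fun a => (φ.commutes a).symm
  have hinj : Function.Injective (Algebra.TensorProduct.map φ (AlgHom.id A B)) := by
    have h1 : Function.Injective (Algebra.TensorProduct.map (Algebra.ofId k₀ k) (AlgHom.id k₀ (k₀ ⊗[A] B))) :=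
      Module.Flat.rTensor_preserves_injective_linearMap (Algebra.ofId k₀ k).toLinearMap hφ
    let e := Algebra.TensorProduct.cancelBaseChange A k₀ k k B
    have key : ∀ y, Algebra.TensorProduct.map φ (AlgHom.id A B) y =
        e (Algebra.TensorProduct.map (Algebra.ofId k₀ k) (AlgHom.id k₀ (k₀ ⊗[A] B)) (1 ⊗ₜ y)) := by
      intro y
      induction y using TensorProduct.induction_on with
      | zero => simp
      | tmul a b =>
        simp [e, Algebra.smul_def, RingHom.algebraMap_toAlgebra]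
      | add p q hp hq => simp only [TensorProduct.tmul_add, map_add, hp, hq]
    intro y y' hy
    rw [key, key] at hy
    exact (TensorProduct.lid k₀ (k₀ ⊗[A] B)).symm.injective (h1 (e.injective hy))
  have hnat : ∀ i y, Algebra.TensorProduct.map φ (AlgHom.id A (C i)) (BC A k₀ (f i) y) =
      BC A k (f i) (Algebra.TensorProduct.map φ (AlgHom.id A B) y) := fun i y => by
    induction y using TensorProduct.induction_on with
    | zero => simp
    | tmul a b => simp
    | add p q hp hq => rw [map_add, map_add, map_add, map_add, hp, hq]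
  intro h x hx
  obtain ⟨m, hm⟩ := hk (Algebra.TensorProduct.map φ (AlgHom.id A B) h)
    (Algebra.TensorProduct.map φ (AlgHom.id A B) x) fun i => by
      obtain ⟨m, hm⟩ := hx i
      refine ⟨m, ?_⟩
      show BC A k (f i) _ = 0
      rw [← map_pow, ← map_mul, ← hnat, show BC A k₀ (f i) (h ^ m * x) = 0 from hm, map_zero]
  exact ⟨m, hinj (by rw [map_mul, map_pow, hm, map_zero])⟩

section Product

variable {X S S' : Scheme.{u}} (p : X ⟶ S) (g : S' ⟶ S) {US : S.Opens} {W : X.Opens} {W' : S'.Opens}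

/-- The affine piece of a fibre product. -/
def prodOpen (W : X.Opens) (W' : S'.Opens) : (Limits.pullback p g).Opens :=
  Limits.pullback.fst p g ⁻¹ᵁ W ⊓ Limits.pullback.snd p g ⁻¹ᵁ W'

theorem prodOpen_le_fst (W : X.Opens) (W' : S'.Opens) :
    prodOpen p g W W' ≤ Limits.pullback.fst p g ⁻¹ᵁ W := fun _ hz => hz.1

theorem prodOpen_le_snd (W : X.Opens) (W' : S'.Opens) :
    prodOpen p g W W' ≤ Limits.pullback.snd p g ⁻¹ᵁ W' := fun _ hz => hz.2

theorem prod_piece (hS : IsAffineOpen US) (hW : IsAffineOpen W) (hW' : IsAffineOpen W')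
    (eW : W ≤ p ⁻¹ᵁ US) (eW' : W' ≤ g ⁻¹ᵁ US) :
    letI := (p.appLE US W eW).hom.toAlgebra
    letI := (g.appLE US W' eW').hom.toAlgebra
    IsAffineOpen (prodOpen p g W W') ∧
    ∃ e : Γ(S', W') ⊗[Γ(S, US)] Γ(X, W) ≃+* Γ(Limits.pullback p g, prodOpen p g W W'),
      ∀ a b, e (a ⊗ₜ b) = (Limits.pullback.snd p g).appLE W' (prodOpen p g W W') (prodOpen_le_snd p g W W') a *
        (Limits.pullback.fst p g).appLE W (prodOpen p g W W') (prodOpen_le_fst p g W W') b := by
  letI := (p.appLE US W eW).hom.toAlgebra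
  letI := (g.appLE US W' eW').hom.toAlgebra
  have H := IsPullback.of_hasPullback p g
  have hY : prodOpen p g W W' = Limits.pullback.fst p g ⁻¹ᵁ W ⊓ Limits.pullback.snd p g ⁻¹ᵁ W' := rfl
  haveI : IsAffine _ := hS
  haveI : IsAffine _ := hW
  haveI : IsAffine _ := hW'
  refine ⟨.of_isIso (Scheme.Hom.isPullback_resLE H eW' eW hY).isoPullback.hom, ?_⟩
  have h := (isIso_pushoutSection_iff H eW' eW hY).mp (isIso_pushoutSection_of_isAffineOpen H eW' eW hY hS hW' hW)
  let h₀ := CommRingCat.isPushout_tensorProduct Γ(S, US) Γ(S', W') Γ(X, W)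
  let e := h₀.isoIsPushout _ _ h.flip
  refine ⟨e.commRingCatIsoToRingEquiv, fun a b => ?_⟩
  have e1 : e.hom (a ⊗ₜ 1) = (Limits.pullback.snd p g).appLE W' (prodOpen p g W W') (prodOpen_le_snd p g W W') a :=
    congr($(h₀.inl_isoIsPushout_hom _ _ h.flip) a)
  have e2 : e.hom (1 ⊗ₜ b) = (Limits.pullback.fst p g).appLE W (prodOpen p g W W') (prodOpen_le_fst p g W W') b :=
    congr($(h₀.inr_isoIsPushout_hom _ _ h.flip) b)
  show e.hom (a ⊗ₜ b) = _
  rw [← e1, ← e2, ← map_mul, Algebra.TensorProduct.tmul_mul_tmul, mul_one, one_mul]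

end Product

section Family

variable {X S S' : Scheme.{u}} (p : X ⟶ S) (g : S' ⟶ S) {ι : Type u} {Z : ι → Scheme.{u}}
  (f : ∀ i, Z i ⟶ X) {US : S.Opens} {W : X.Opens} {W' : S'.Opens}
  {κ : ι → Type u} {U : ∀ i, κ i → (Z i).Opens}

/-- The base change of a member of the family. -/
abbrev fMap (i : ι) : Limits.pullback (f i ≫ p) g ⟶ Limits.pullback p g :=
  Limits.pullback.map (f i ≫ p) g p g (f i) (𝟙 S') (𝟙 S) (Category.comp_id _)
    ((Category.comp_id _).trans (Category.id_comp _).symm)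

theorem fMap_fst (i : ι) : fMap p g f i ≫ Limits.pullback.fst p g = Limits.pullback.fst _ _ ≫ f i :=
  Limits.limit.lift_π _ _

theorem fMap_snd (i : ι) : fMap p g f i ≫ Limits.pullback.snd p g = Limits.pullback.snd _ _ :=
  (Limits.limit.lift_π _ _).trans (Category.comp_id _)

theorem prodOpen_le (eU : ∀ i k, U i k ≤ f i ⁻¹ᵁ W) (i : ι) (k : κ i) :
    prodOpen (f i ≫ p) g (U i k) W' ≤ fMap p g f i ⁻¹ᵁ prodOpen p g W W' := by
  intro z hz
  refine ⟨?_, ?_⟩
  · show (fMap p g f i ≫ Limits.pullback.fst p g) z ∈ W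
    rw [fMap_fst]
    exact eU i k hz.1
  · show (fMap p g f i ≫ Limits.pullback.snd p g) z ∈ W'
    rw [fMap_snd]
    exact hz.2

/-- A member of the family on affine opens, over the base ring. -/
def famHom (eW : W ≤ p ⁻¹ᵁ US) (eU : ∀ i k, U i k ≤ f i ⁻¹ᵁ W)
    (e' : ∀ i k, U i k ≤ (f i ≫ p) ⁻¹ᵁ US) (a : Σ i, κ i) :
    letI := (p.appLE US W eW).hom.toAlgebra
    letI := ((f a.1 ≫ p).appLE US (U a.1 a.2) (e' a.1 a.2)).hom.toAlgebra
    Γ(X, W) →ₐ[Γ(S, US)] Γ(Z a.1, U a.1 a.2) :=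
  letI := (p.appLE US W eW).hom.toAlgebra
  letI := ((f a.1 ≫ p).appLE US (U a.1 a.2) (e' a.1 a.2)).hom.toAlgebra
  { ((f a.1).appLE W (U a.1 a.2) (eU a.1 a.2)).hom with
    commutes' := fun r => by
      show (p.appLE US W eW ≫ (f a.1).appLE W (U a.1 a.2) (eU a.1 a.2)) r = _
      rw [Scheme.Hom.appLE_comp_appLE]
      rfl }

theorem JI_prod_iff (hS : IsAffineOpen US) (hW : IsAffineOpen W) (hW' : IsAffineOpen W')
    (hU : ∀ i k, IsAffineOpen (U i k)) (eW : W ≤ p ⁻¹ᵁ US) (eW' : W' ≤ g ⁻¹ᵁ US)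
    (eU : ∀ i k, U i k ≤ f i ⁻¹ᵁ W) (e' : ∀ i k, U i k ≤ (f i ≫ p) ⁻¹ᵁ US) :
    letI := (p.appLE US W eW).hom.toAlgebra
    letI := (g.appLE US W' eW').hom.toAlgebra
    letI : ∀ a : Σ i, κ i, Algebra Γ(S, US) Γ(Z a.1, U a.1 a.2) := fun a =>
      ((f a.1 ≫ p).appLE US (U a.1 a.2) (e' a.1 a.2)).hom.toAlgebra
    JI (fun a : Σ i, κ i => ((fMap p g f a.1).appLE (prodOpen p g W W')
      (prodOpen (f a.1 ≫ p) g (U a.1 a.2) W') (prodOpen_le p g f eU a.1 a.2)).hom) ↔
    JI (fun a : Σ i, κ i => (BC Γ(S, US) Γ(S', W') (famHom p f eW eU e' a)).toRingHom) := by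
  letI := (p.appLE US W eW).hom.toAlgebra
  letI := (g.appLE US W' eW').hom.toAlgebra
  letI : ∀ a : Σ i, κ i, Algebra Γ(S, US) Γ(Z a.1, U a.1 a.2) := fun a =>
    ((f a.1 ≫ p).appLE US (U a.1 a.2) (e' a.1 a.2)).hom.toAlgebra
  obtain ⟨-, eB, heB⟩ := prod_piece p g hS hW hW' eW eW'
  choose eC heC using fun a : Σ i, κ i => (prod_piece (f a.1 ≫ p) g hS (hU a.1 a.2) hW' (e' a.1 a.2) eW').2
  have key : ∀ (a : Σ i, κ i) (x : Γ(S', W') ⊗[Γ(S, US)] Γ(X, W)),
      eC a (BC Γ(S, US) Γ(S', W') (famHom p f eW eU e' a) x) = (fMap p g f a.1).appLE (prodOpen p g W W')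
        (prodOpen (f a.1 ≫ p) g (U a.1 a.2) W') (prodOpen_le p g f eU a.1 a.2) (eB x) := by
    intro a x
    induction x using TensorProduct.induction_on with
    | zero => simp
    | tmul s b =>
      rw [Algebra.TensorProduct.map_tmul, heC, heB, map_mul]
      congr 1
      · show _ = ((Limits.pullback.snd p g).appLE W' _ _ ≫ (fMap p g f a.1).appLE _ _ _) s
        rw [Scheme.Hom.appLE_comp_appLE]
        simp only [fMap_snd]
        rfl
      · show ((f a.1).appLE W (U a.1 a.2) _ ≫ (Limits.pullback.fst (f a.1 ≫ p) g).appLE _ _ _) b =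
          ((Limits.pullback.fst p g).appLE W _ _ ≫ (fMap p g f a.1).appLE _ _ _) b
        rw [Scheme.Hom.appLE_comp_appLE, Scheme.Hom.appLE_comp_appLE]
        simp only [fMap_fst]
    | add u v hu hv => simp only [map_add, hu, hv]
  constructor
  · refine JI_congr eB.symm (fun a => (eC a).symm) fun a x => ?_
    obtain ⟨y, rfl⟩ := eB.surjective x
    rw [RingEquiv.symm_apply_apply, RingEquiv.symm_apply_eq]
    exact (key a y).symm
  · exact JI_congr eB eC key

/-- Preimage of an affine open is covered by affine opens. -/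
abbrev affLE (f : ∀ i, Z i ⟶ X) (W : X.Opens) (i : ι) : Type u :=
  {U : (Z i).Opens // IsAffineOpen U ∧ U ≤ f i ⁻¹ᵁ W}

set_option maxHeartbeats 1000000 in
theorem fibre_JI (hSD : ∀ s : S, SD (fun i => fMap p (S.fromSpecResidueField s) f i))
    (hS : IsAffineOpen US) (hW : IsAffineOpen W) (eW : W ≤ p ⁻¹ᵁ US) (P : Ideal Γ(S, US)) [P.IsPrime] :
    letI := (p.appLE US W eW).hom.toAlgebra
    letI : ∀ a : Σ i, affLE f W i, Algebra Γ(S, US) Γ(Z a.1, a.2.1) := fun a =>
      ((f a.1 ≫ p).appLE US a.2.1 (a.2.2.2.trans ((f a.1).preimage_mono eW))).hom.toAlgebra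
    JI (fun a : Σ i, affLE f W i => (BC Γ(S, US) P.ResidueField (famHom p f eW (fun _ k => k.2.2)
      (fun i k => k.2.2.trans ((f i).preimage_mono eW)) a)).toRingHom) := by
  letI := (p.appLE US W eW).hom.toAlgebra
  letI : ∀ a : Σ i, affLE f W i, Algebra Γ(S, US) Γ(Z a.1, a.2.1) := fun a =>
    ((f a.1 ≫ p).appLE US a.2.1 (a.2.2.2.trans ((f a.1).preimage_mono eW))).hom.toAlgebra
  let s : S := hS.fromSpec ⟨P, inferInstance⟩
  have hs : s ∈ US := by
    have : s ∈ Set.range hS.fromSpec := ⟨_, rfl⟩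
    rwa [hS.range_fromSpec] at this
  let g := S.fromSpecResidueField s
  have eW' : (⊤ : (Spec (S.residueField s)).Opens) ≤ g ⁻¹ᵁ US := fun z _ => by
    show g z ∈ US
    rwa [Scheme.fromSpecResidueField_apply]
  letI := (g.appLE US ⊤ eW').hom.toAlgebra
  haveI : IsAffine (Spec (S.residueField s)) := inferInstance
  have hT : IsAffineOpen (⊤ : (Spec (S.residueField s)).Opens) := isAffineOpen_top _
  have h1 := (JI_prod_iff p g f (κ := affLE f W) (U := fun _ k => k.1) hS hW hT (fun i k => k.2.1) eW eW' (fun i k => k.2.2)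
    (fun i k => k.2.2.trans ((f i).preimage_mono eW))).mp ?_
  swap
  · refine SD.JI (κ := affLE f W) (U := fun i k => prodOpen (f i ≫ p) g k.1 ⊤)
      (hSD s) (prod_piece p g hS hW hT eW eW').1 (fun i k => prodOpen_le p g f (fun i k => k.2.2) i k)
      fun i z hz => ?_
    have hz' : Limits.pullback.fst (f i ≫ p) g z ∈ f i ⁻¹ᵁ W := by
      show (Limits.pullback.fst (f i ≫ p) g ≫ f i) z ∈ W
      rw [← fMap_fst p g f i]
      exact hz.1
    obtain ⟨V, hV, hzV, hVle⟩ := exists_isAffineOpen_mem_and_subset hz'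
    exact ⟨⟨V, hV, hVle⟩, hzV, trivial⟩
  -- the kernel of `Γ(S, US) → κ(s)` is `P`
  let K := Γ(Spec (S.residueField s), ⊤)
  have hfld : IsField K :=
    (Scheme.ΓSpecIso (S.residueField s)).commRingCatIsoToRingEquiv.toMulEquiv.isField (Field.toIsField _)
  letI : Field K := hfld.toField
  have hker : ∀ a : Γ(S, US), algebraMap Γ(S, US) K a = 0 ↔ a ∈ P := by
    intro a
    have h2 : (⊤ : (Spec (S.residueField s)).Opens) ⊓ g ⁻¹ᵁ S.basicOpen a =
        (Spec (S.residueField s)).basicOpen (algebraMap Γ(S, US) K a) :=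
      (Scheme.basicOpen_appLE g ⊤ US eW' a).symm
    have h3 : a ∉ P ↔ s ∈ S.basicOpen a := by
      show _ ↔ (⟨P, inferInstance⟩ : Spec Γ(S, US)) ∈ hS.fromSpec ⁻¹ᵁ S.basicOpen a
      rw [hS.fromSpec_preimage_basicOpen]
      rfl
    constructor
    · intro h0
      by_contra ha
      rw [h0, Scheme.basicOpen_zero] at h2
      obtain ⟨z⟩ : Nonempty (Spec (S.residueField s)) := inferInstance
      have hz : z ∈ (⊤ : (Spec (S.residueField s)).Opens) ⊓ g ⁻¹ᵁ S.basicOpen a :=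
        ⟨trivial, show g z ∈ S.basicOpen a by rw [Scheme.fromSpecResidueField_apply]; exact h3.mp ha⟩
      rw [h2] at hz
      exact hz
    · intro ha
      by_contra h0
      have hu : IsUnit (algebraMap Γ(S, US) K a) := isUnit_iff_ne_zero.mpr h0
      rw [Scheme.basicOpen_of_isUnit _ hu] at h2
      obtain ⟨z⟩ : Nonempty (Spec (S.residueField s)) := inferInstance
      have hz : z ∈ (⊤ : (Spec (S.residueField s)).Opens) ⊓ g ⁻¹ᵁ S.basicOpen a := by rw [h2]; trivial
      have hz2 : g z ∈ S.basicOpen a := hz.2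
      rw [Scheme.fromSpecResidueField_apply] at hz2
      exact h3.mpr hz2 ha
  let φ : P.ResidueField →+* K := Ideal.ResidueField.lift P (algebraMap Γ(S, US) K)
    (fun a ha => (hker a).mpr ha) (fun a ha => isUnit_iff_ne_zero.mpr fun h0 => ha ((hker a).mp h0))
  exact JI_descend (k := K) (k₀ := P.ResidueField)
    ({ φ with commutes' := fun a => Ideal.ResidueField.lift_algebraMap _ _ _ _ a } : P.ResidueField →ₐ[Γ(S, US)] K)
    φ.injective _ h1

set_option maxHeartbeats 1000000 in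
theorem univ_iff [IsLocallyNoetherian X] [∀ i, Flat (f i ≫ p)] :
    (∀ (S' : Scheme.{u}) (g : S' ⟶ S), SD (fun i => fMap p g f i)) ↔
      ∀ s : S, SD (fun i => fMap p (S.fromSpecResidueField s) f i) := by
  refine ⟨fun h s => h _ _, fun hSD S' g => SD.of_JI fun y => ?_⟩
  obtain ⟨US, hS, hsU, -⟩ := exists_isAffineOpen_mem_and_subset
    (U := ⊤) (x := p (Limits.pullback.fst p g y)) trivial
  obtain ⟨W, hW, hxW, eW⟩ := exists_isAffineOpen_mem_and_subset
    (U := p ⁻¹ᵁ US) (x := Limits.pullback.fst p g y) hsU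
  obtain ⟨W', hW', hyW', eW'⟩ := exists_isAffineOpen_mem_and_subset
    (U := g ⁻¹ᵁ US) (x := Limits.pullback.snd p g y) (by
      show (Limits.pullback.snd p g ≫ g) y ∈ US
      rw [← Limits.pullback.condition]
      exact hsU)
  refine ⟨prodOpen p g W W', (prod_piece p g hS hW hW' eW eW').1, affLE f W,
    fun i k => prodOpen (f i ≫ p) g k.1 W', fun i k => prodOpen_le p g f (fun i k => k.2.2) i k,
    fun i k => (prod_piece (f i ≫ p) g hS k.2.1 hW' (k.2.2.trans ((f i).preimage_mono eW)) eW').1,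
    ⟨hxW, hyW'⟩, (JI_prod_iff p g f (κ := affLE f W) (U := fun _ k => k.1) hS hW hW' (fun i k => k.2.1) eW eW' (fun i k => k.2.2)
      (fun i k => k.2.2.trans ((f i).preimage_mono eW))).mpr ?_⟩
  letI := (p.appLE US W eW).hom.toAlgebra
  letI := (g.appLE US W' eW').hom.toAlgebra
  letI : ∀ a : Σ i, affLE f W i, Algebra Γ(S, US) Γ(Z a.1, a.2.1) := fun a =>
    ((f a.1 ≫ p).appLE US a.2.1 (a.2.2.2.trans ((f a.1).preimage_mono eW))).hom.toAlgebra
  haveI : IsNoetherianRing Γ(X, W) := IsLocallyNoetherian.component_noetherian ⟨W, hW⟩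
  haveI : ∀ a : Σ i, affLE f W i, Module.Flat Γ(S, US) Γ(Z a.1, a.2.1) := fun a =>
    HasRingHomProperty.appLE (P := @Flat) (f a.1 ≫ p) (inferInstance : Flat (f a.1 ≫ p)) ⟨US, hS⟩
      ⟨a.2.1, a.2.2.1⟩ (a.2.2.2.trans ((f a.1).preimage_mono eW))
  exact JI_univ _ (fun P hP => fibre_JI p f hSD hS hW eW P) _

set_option maxHeartbeats 1000000 in
theorem univ_of_field {k : Type u} [Field k] (q : X ⟶ Spec (CommRingCat.of k)) (g : S' ⟶ Spec (CommRingCat.of k))
    (hf : SD f) : SD (fun i => fMap q g f i) := by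
  refine SD.of_JI fun y => ?_
  have hS : IsAffineOpen (⊤ : (Spec (CommRingCat.of k)).Opens) := isAffineOpen_top _
  obtain ⟨W, hW, hxW, -⟩ := exists_isAffineOpen_mem_and_subset
    (U := ⊤) (x := Limits.pullback.fst q g y) trivial
  obtain ⟨W', hW', hyW', -⟩ := exists_isAffineOpen_mem_and_subset
    (U := ⊤) (x := Limits.pullback.snd q g y) trivial
  have eW : W ≤ q ⁻¹ᵁ ⊤ := fun _ _ => trivial
  have eW' : W' ≤ g ⁻¹ᵁ ⊤ := fun _ _ => trivial
  refine ⟨prodOpen q g W W', (prod_piece q g hS hW hW' eW eW').1, affLE f W,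
    fun i k => prodOpen (f i ≫ q) g k.1 W', fun i k => prodOpen_le q g f (fun i k => k.2.2) i k,
    fun i k => (prod_piece (f i ≫ q) g hS k.2.1 hW' (fun _ _ => trivial) eW').1,
    ⟨hxW, hyW'⟩, (JI_prod_iff q g f (κ := affLE f W) (U := fun _ k => k.1) hS hW hW' (fun i k => k.2.1)
      eW eW' (fun i k => k.2.2) (fun i k => fun _ _ => trivial)).mpr ?_⟩
  letI := (q.appLE ⊤ W eW).hom.toAlgebra
  letI := (g.appLE ⊤ W' eW').hom.toAlgebra
  letI : ∀ a : Σ i, affLE f W i, Algebra Γ(Spec (CommRingCat.of k), ⊤) Γ(Z a.1, a.2.1) := fun a =>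
    ((f a.1 ≫ q).appLE ⊤ a.2.1 (fun _ _ => trivial)).hom.toAlgebra
  letI : Field Γ(Spec (CommRingCat.of k), ⊤) :=
    ((Scheme.ΓSpecIso (CommRingCat.of k)).commRingCatIsoToRingEquiv.toMulEquiv.isField (Field.toIsField k)).toField
  exact JI_univ_field _ (hf.JI hW (U := fun i (k : affLE f W i) => k.1) (fun i k => k.2.2)
    fun i z hz => by
      obtain ⟨V, hV, hzV, hVle⟩ := exists_isAffineOpen_mem_and_subset (U := f i ⁻¹ᵁ W) (x := z) hz
      exact ⟨⟨V, hV, hVle⟩, hzV⟩) _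

end Family

end Groth.Agent.SchDom
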